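import Mathlib
import Cfsg.Agent.Rud.Model
import Cfsg.Agent.RudOut.Data
import Cfsg.Agent.StemCert.Defs

/-! Checks on permutations of the 4060 lines given by tables. -/

set_option autoImplicit false

namespace Cfsg.Agent.RudOut

open Cfsg.Agent.Rud (get limg)
open Cfsg.Agent.Leech.Model (pk)
open Cfsg.Agent.StemCert (forceN forceL)

/-- a table, packed -/
def code (s : ℕ) : ℕ := permData.getD s 0

/-- a table -/
def tb (s i : ℕ) : ℕ := pk 12 (code s) i

/-- a word in the tables -/
def evT (w : List ℕ) (i : ℕ) : ℕ := w.foldr (fun s y => tb s y) i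

/-- a word given by its codes, with evaluated intermediate values -/
noncomputable def evC (cs : List ℕ) (i : ℕ) : ℕ :=
  List.rec (motive := fun _ => ℕ) i (fun c _ y => forceN y fun y' => pk 12 c y') cs

/-- the letters of a word are indices -/
def lettersOK (bound : ℕ) (w : List ℕ) : Bool := w.all fun s => Nat.blt s bound

/-- the recipe of an entry -/
def recipeOK (s : ℕ) : Bool :=
  let r := recipes.getD s (3, [])
  if r.1 = 0 then lettersOK s r.2
  else if r.1 = 1 then Nat.beq r.2.length 1 && lettersOK s r.2
  else Nat.beq r.1 2 && Nat.blt s 2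

/-- all entries follow their recipes -/
noncomputable def tableOK (s : ℕ) : Bool :=
  recipeOK s && forceN (code s) fun cc =>
    forceL ((recipes.getD s (3, [])).2.map code) fun cs =>
      forceN (recipes.getD s (3, [])).1 fun t =>
        Compute.allBelow 4060 fun i => forceN (pk 12 cc i) fun v =>
          Nat.blt v 4060 &&
            (if t = 0 then Nat.beq v (evC cs i)
             else if t = 1 then Nat.beq (pk 12 (cs.getD 0 0) v) i
             else Nat.beq v (limg s i))

/-- the marked entries are made of marked ones -/
def flagOK : Bool :=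
  flagged.all fun s => Nat.beq s xI || Nat.beq s vI ||
    (recipes.getD s (3, [])).1 != 2 &&
      (recipes.getD s (3, [])).2.all fun t => flagged.any fun u => Nat.beq u t

/-- data of a chain -/
structure ChainData where
  base : List ℕ
  gens : List (List ℕ)
  invs : List (List ℕ)
  pts : List (List ℕ)
  par : List (List ℕ)
  lab : List (List ℕ)
  mask : List ℕ

/-- the lengths of the orbits -/
def sizes : List ℕ := [4060, 2304, 975, 16]

/-- a level of a chain -/
def levelOK (C : ChainData) (l : ℕ) : Bool :=
  let b := C.base.getD l 0
  let n := sizes.getD l 0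
  let gs := C.gens.getD l []
  let P := C.pts.getD l []
  lettersOK 42 gs && Nat.blt b 4060 && Nat.beq (get 12 P 0) b &&
    (gs.all fun s => (C.base.take l).all fun c => Nat.beq (tb s c) c) &&
    ((List.range n).all fun k => Nat.blt (get 12 P k) 4060 && (C.mask.getD l 0).testBit (get 12 P k) &&
      (Nat.beq k 0 || (Nat.blt (get 12 (C.par.getD l []) k) k &&
        Nat.blt (get 12 (C.lab.getD l []) k) gs.length &&
        Nat.beq (tb (gs.getD (get 12 (C.lab.getD l []) k) 0)
          (get 12 P (get 12 (C.par.getD l []) k))) (get 12 P k)))) &&
    Leech.Model.noRep 0 ((List.range n).map (get 12 P))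

/-- the inverses of the level generators -/
noncomputable def invsOK (C : ChainData) (l : ℕ) : Bool :=
  Compute.allBelow (C.gens.getD l []).length fun q =>
    Nat.blt ((C.invs.getD l []).getD q 0) 42 &&
      forceN (code ((C.gens.getD l []).getD q 0)) fun cg =>
        forceN (code ((C.invs.getD l []).getD q 0)) fun ci =>
          Compute.allBelow 4060 fun i => Nat.beq (pk 12 ci (pk 12 cg i)) i

/-- undo the representative of a point of an orbit -/
noncomputable def back (is par lab : List ℕ) : ℕ → ℕ → List ℕ → List ℕ
  | 0, _, t => t
  | fuel + 1, k, t =>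
    if Nat.beq k 0 then t
    else forceN (get 12 par k) fun k' =>
      forceN (code (is.getD (get 12 lab k) 0)) fun c =>
        forceL (t.map (pk 12 c)) fun t' => back is par lab fuel k' t'

/-- parents come earlier and the depth is below the fuel -/
def depthOK (C : ChainData) (l : ℕ) : Bool :=
  (List.range (sizes.getD l 0)).all fun k =>
    Nat.beq ((List.range 64).foldl (fun a _ => if Nat.beq a 0 then 0 else get 12 (C.par.getD l []) a) k) 0

/-- the listed images of the base belong to no element -/
noncomputable def failB (C : ChainData) : ℕ → ℕ → List ℕ → ℕ → Bool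
  | 0, _, _, _ => false
  | more + 1, l, t, c =>
    !((C.mask.getD l 0).testBit (t.getD 0 0)) ||
      (Nat.blt (c % 4096) (sizes.getD l 0) &&
        Nat.beq (get 12 (C.pts.getD l []) (c % 4096)) (t.getD 0 0) &&
        failB C more (l + 1)
          (back (C.invs.getD l []) (C.par.getD l []) (C.lab.getD l []) 64 (c % 4096) t.tail) (c / 4096))

/-- iterate a table -/
def powT (s : ℕ) : ℕ → ℕ → ℕ
  | 0, p => p
  | e + 1, p => tb s (powT s e p)

/-- a candidate gives a listed element or none -/
noncomputable def candOK (C : ChainData) (sl : ℕ) (es : List ℕ) (els : List (List ℕ)) (cert : List ℕ)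
    (p : ℕ) : Bool :=
  forceL (es.map fun e => powT sl e p) fun tg => forceN (get 37 cert p) fun c =>
  if c % 2 = 1 then
    Nat.blt (c / 2) els.length &&
      (List.range 4).all fun i => Nat.beq (evT (els.getD (c / 2) []) (C.base.getD i 0)) (tg.getD i 0)
  else failB C 4 0 tg (c / 2)

/-- the base is the start moved by powers -/
def baseOK (C : ChainData) (sl start : ℕ) (es : List ℕ) : Bool :=
  Nat.beq C.base.length 4 && Nat.beq es.length 4 && Nat.blt start 4060 &&
    (List.range 4).all fun i => Nat.beq (C.base.getD i 0) (powT sl (es.getD i 0) start)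

/-- the first chain -/
def chainX : ChainData := ⟨baseX, gensX, invsX, ptsX, parX, labX, maskX⟩

/-- the second chain -/
def chainH : ChainData := ⟨baseH, gensH, invsH, ptsH, parH, labH, maskH⟩

/-- two words agree on the base -/
def eqB (a b : List ℕ) : Bool := baseX.all fun p => Nat.beq (evT a p) (evT b p)

/-- the kinds of the elements centralising the second element -/
def kindOK (w : List ℕ) : Bool :=
  !eqB (w ++ w) [] || eqB w [] ||
    !eqB ((List.replicate 29 (xI :: w)).flatten) [] || eqB w [vI]

end Cfsg.Agent.RudOut
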