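import Mathlib
import Cfsg.Agent.RudOut.Defs

/-! The checks. -/

set_option autoImplicit false
set_option maxRecDepth 100000
set_option maxHeartbeats 0

namespace Cfsg.Agent.RudOut

open Cfsg.Agent.Rud (allFrom)

theorem invsX_ok : allFrom (invsOK chainX) 0 3 = true := by decide +kernel
theorem invsH_ok : allFrom (invsOK chainH) 0 3 = true := by decide +kernel
theorem depthX_ok : allFrom (depthOK chainX) 0 3 = true := by decide +kernel
theorem depthH_ok : allFrom (depthOK chainH) 0 3 = true := by decide +kernel
theorem candX_ok0 : allFrom (candOK chainX xI expsX elsX certX) 0 1015 = true := by decide +kernel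
theorem candX_ok1 : allFrom (candOK chainX xI expsX elsX certX) 1015 1015 = true := by decide +kernel
theorem candX_ok2 : allFrom (candOK chainX xI expsX elsX certX) 2030 1015 = true := by decide +kernel
theorem candX_ok3 : allFrom (candOK chainX xI expsX elsX certX) 3045 1015 = true := by decide +kernel
theorem candH_ok0 : allFrom (candOK chainH hI expsH elsH certH) 0 1015 = true := by decide +kernel
theorem candH_ok1 : allFrom (candOK chainH hI expsH elsH certH) 1015 1015 = true := by decide +kernel
theorem candH_ok2 : allFrom (candOK chainH hI expsH elsH certH) 2030 1015 = true := by decide +kernel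
theorem candH_ok3 : allFrom (candOK chainH hI expsH elsH certH) 3045 1015 = true := by decide +kernel

end Cfsg.Agent.RudOut
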