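import Mathlib
import Cfsg.Agent.RudOut.Defs

/-! The checks. -/

set_option autoImplicit false
set_option maxRecDepth 100000
set_option maxHeartbeats 0

namespace Cfsg.Agent.RudOut

open Cfsg.Agent.Rud (allFrom)

theorem levelX0 : levelOK chainX 0 = true := by decide +kernel
theorem levelX1 : levelOK chainX 1 = true := by decide +kernel
theorem levelX2 : levelOK chainX 2 = true := by decide +kernel
theorem levelX3 : levelOK chainX 3 = true := by decide +kernel
theorem levelH0 : levelOK chainH 0 = true := by decide +kernel
theorem levelH1 : levelOK chainH 1 = true := by decide +kernel
theorem levelH2 : levelOK chainH 2 = true := by decide +kernel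
theorem levelH3 : levelOK chainH 3 = true := by decide +kernel

end Cfsg.Agent.RudOut
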