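import Mathlib
import Cfsg.Agent.RudOut.Defs

/-! The checks. -/

set_option autoImplicit false
set_option maxRecDepth 100000
set_option maxHeartbeats 0

namespace Cfsg.Agent.RudOut

open Cfsg.Agent.Rud (allFrom)

theorem table_ok0 : allFrom tableOK 0 7 = true := by decide +kernel
theorem table_ok1 : allFrom tableOK 7 7 = true := by decide +kernel
theorem table_ok2 : allFrom tableOK 14 7 = true := by decide +kernel
theorem table_ok3 : allFrom tableOK 21 7 = true := by decide +kernel
theorem table_ok4 : allFrom tableOK 28 7 = true := by decide +kernel
theorem table_ok5 : allFrom tableOK 35 7 = true := by decide +kernel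
theorem flag_ok : flagOK = true := by decide +kernel
theorem baseX_ok : baseOK chainX xI startX expsX = true := by decide +kernel
theorem baseH_ok : baseOK chainH hI startH expsH = true := by decide +kernel
theorem els_ok : (elsX.all fun w => w.all fun s => Nat.beq s xI) = true ∧
    (elsH.all (lettersOK 42)) = true ∧ (genWords.all fun w => w.all fun s => flagged.any fun u => Nat.beq u s) = true ∧
    eqB (genWords.getD 0 []) [0] = true ∧ eqB (genWords.getD 1 []) [1] = true ∧
    eqB [hI, xI] [xI, xI, xI, xI, xI, hI] = true ∧ eqB (List.replicate 29 xI) [] = true ∧ eqB [xI] [] = false ∧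
    eqB [vI, vI] [] = true ∧ eqB [vI] [] = false ∧ eqB [hI, vI] [vI, hI] = true ∧
    eqB ((List.replicate 29 [xI, vI]).flatten) [] = true ∧ elsH.all kindOK = true := by decide +kernel

end Cfsg.Agent.RudOut
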