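import Mathlib
import Cfsg.Agent.Rud.Order
import Cfsg.Agent.RudOut.CheckTables
import Cfsg.Agent.RudOut.CheckLevels
import Cfsg.Agent.RudOut.CheckCands
import Cfsg.Agent.StemCert.Bound

/-! Elements given by the tables, exact orbits, and centralisers from candidates. -/

set_option autoImplicit false
set_option maxRecDepth 100000

namespace Cfsg.Agent.RudOut

open Cfsg.Agent.Rud (Hgrp get allFrom_spec hgen hgen_apply genOK0 genOK1 limg)
open Cfsg.Agent.Leech.Model (pk noRep_range)
open Cfsg.Agent.StemCert (forceN_eq forceL_eq)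

theorem chunks {f : ℕ → Bool} {len cnt : ℕ} (hlen : 0 < len)
    (h : ∀ c < cnt, Rud.allFrom f (len * c) len = true) {i : ℕ} (hi : i < len * cnt) : f i = true := by
  have hc : i / len < cnt := Nat.div_lt_of_lt_mul hi
  have h1 := Nat.div_add_mod i len
  have h2 := Nat.mod_lt i hlen
  exact allFrom_spec (h _ hc) (by omega) (by omega)

/-- the action on the numbers of the lines -/
def act (g : ↥Hgrp) (i : ℕ) : ℕ :=
  if h : i < 4060 then ((g : Equiv.Perm (Fin 4060)) ⟨i, h⟩ : ℕ) else i

theorem act_lt (g : ↥Hgrp) {i : ℕ} (hi : i < 4060) : act g i < 4060 := by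
  rw [act, dif_pos hi]; exact Fin.isLt _

theorem act_one (i : ℕ) : act 1 i = i := by unfold act; split_ifs <;> rfl

theorem act_mul (g h : ↥Hgrp) (i : ℕ) : act (g * h) i = act g (act h i) := by
  unfold act
  split_ifs with h1 h2
  · rfl
  · exact absurd (Fin.isLt _) h2
  · rfl

theorem act_inv_act (g : ↥Hgrp) (i : ℕ) : act g⁻¹ (act g i) = i := by
  rw [← act_mul, inv_mul_cancel, act_one]

theorem act_act_inv (g : ↥Hgrp) (i : ℕ) : act g (act g⁻¹ i) = i := by
  rw [← act_mul, mul_inv_cancel, act_one]

theorem ext_act {g h : ↥Hgrp} (e : ∀ i < 4060, act g i = act h i) : g = h := by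
  refine Subtype.ext (Equiv.ext fun i => Fin.ext ?_)
  have := e i i.2
  simpa [act] using this

/-- an element realises a table -/
def Realises (g : ↥Hgrp) (s : ℕ) : Prop := ∀ i < 4060, act g i = tb s i

theorem evC_eq (cs : List ℕ) (i : ℕ) : evC cs i = cs.foldr (fun c y => pk 12 c y) i := by
  induction cs with
  | nil => rfl
  | cons c cs ih =>
    show StemCert.forceN (evC cs i) (fun y' => pk 12 c y') = _
    rw [forceN_eq, ih, List.foldr_cons]

theorem evC_map (w : List ℕ) (i : ℕ) : evC (w.map code) i = evT w i := by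
  rw [evC_eq, evT]
  induction w with
  | nil => rfl
  | cons s w ih => rw [List.map_cons, List.foldr_cons, List.foldr_cons, ih]; rfl

theorem word_act {el : ℕ → ↥Hgrp} : ∀ w : List ℕ, (∀ s ∈ w, Realises (el s) s) → ∀ i < 4060,
    act ((w.map el).prod) i = evT w i
  | [], _, i, _ => act_one i
  | s :: w, h, i, hi => by
    have ih := word_act w (fun t ht => h t (List.mem_cons_of_mem _ ht)) i hi
    rw [List.map_cons, List.prod_cons, act_mul, h s List.mem_cons_self _ (act_lt _ hi), ih]
    rfl

theorem table_facts {s : ℕ} (hs : s < 42) :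
    recipeOK s = true ∧ ∀ i < 4060, tb s i < 4060 ∧
      ((recipes.getD s (3, [])).1 = 0 → tb s i = evT (recipes.getD s (3, [])).2 i) ∧
      ((recipes.getD s (3, [])).1 = 1 → tb ((recipes.getD s (3, [])).2.getD 0 0) (tb s i) = i) ∧
      (2 ≤ (recipes.getD s (3, [])).1 → tb s i = limg s i) := by
  have h : tableOK s = true := by
    refine chunks (len := 7) (cnt := 6) (by norm_num) (fun c hc => ?_) (by omega)
    interval_cases c
    exacts [table_ok0, table_ok1, table_ok2, table_ok3, table_ok4, table_ok5]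
  simp only [tableOK, forceN_eq, forceL_eq, Bool.and_eq_true] at h
  refine ⟨h.1, fun i hi => ?_⟩
  have h' := Compute.allBelow_eq_true.mp h.2 i hi
  simp only [Bool.and_eq_true, Nat.blt_eq, evC_map] at h'
  obtain ⟨hlt, h'⟩ := h'
  refine ⟨hlt, fun e => ?_, fun e => ?_, fun e => ?_⟩
  · rw [if_pos e, Nat.beq_eq] at h'; exact h'
  · rw [if_neg (by omega), if_pos e, Nat.beq_eq] at h'
    have hr := h.1
    simp only [recipeOK, e, one_ne_zero, if_false, if_true, Bool.and_eq_true, Nat.beq_eq] at hr
    obtain ⟨t, ht⟩ := List.length_eq_one_iff.1 hr.1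
    rw [ht] at h' ⊢
    exact h'
  · rw [if_neg (by omega), if_neg (by omega), Nat.beq_eq] at h'; exact h'

theorem exists_el : ∀ s, s < 42 → ∃ g : ↥Hgrp, Realises g s := by
  intro s
  induction s using Nat.strong_induction_on with
  | _ s ih =>
    intro hs
    obtain ⟨hr, hent⟩ := table_facts hs
    simp only [recipeOK] at hr
    split_ifs at hr with h0 h1
    · simp only [lettersOK, List.all_eq_true, Nat.blt_eq] at hr
      choose! el hel using fun t (ht : t < s) => ih t ht (ht.trans hs)
      refine ⟨(((recipes.getD s (3, [])).2).map el).prod, fun i hi => ?_⟩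
      rw [word_act _ (fun t ht => hel t (hr t ht)) i hi, (hent i hi).2.1 h0]
    · simp only [Bool.and_eq_true, Nat.beq_eq, lettersOK, List.all_eq_true, Nat.blt_eq] at hr
      obtain ⟨t, ht⟩ := List.length_eq_one_iff.1 hr.1
      have htlt : t < s := hr.2 t (by rw [ht]; simp)
      obtain ⟨g, hg⟩ := ih t htlt (htlt.trans hs)
      refine ⟨g⁻¹, fun i hi => ?_⟩
      have h := (hent i hi).2.2.1 h1
      rw [ht, List.getD_cons_zero, ← hg _ (hent i hi).1] at h
      conv_lhs => rw [← h]
      exact act_inv_act g _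
    · simp only [Bool.and_eq_true, Nat.beq_eq, Nat.blt_eq] at hr
      have e := fun i hi => (hent i hi).2.2.2 (show 2 ≤ (recipes.getD s (3, [])).1 by omega)
      have hb : s = 0 ∨ s = 1 := by omega
      rcases hb with rfl | rfl
      · refine ⟨⟨hgen genOK0, Subgroup.subset_closure (by simp)⟩, fun i hi => ?_⟩
        rw [act, dif_pos hi, hgen_apply, e i hi]
      · refine ⟨⟨hgen genOK1, Subgroup.subset_closure (by simp)⟩, fun i hi => ?_⟩
        rw [act, dif_pos hi, hgen_apply, e i hi]

/-- the element of a table -/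
noncomputable def el (s : ℕ) : ↥Hgrp := if h : s < 42 then (exists_el s h).choose else 1

theorem el_spec {s : ℕ} (hs : s < 42) : Realises (el s) s := by
  rw [el, dif_pos hs]; exact (exists_el s hs).choose_spec

/-- the element of a word -/
noncomputable def elW (w : List ℕ) : ↥Hgrp := (w.map el).prod

theorem elW_act {w : List ℕ} (hw : ∀ s ∈ w, s < 42) {i : ℕ} (hi : i < 4060) : act (elW w) i = evT w i :=
  word_act w (fun s hs => el_spec (hw s hs)) i hi

/-- the elements fixing some points -/
def stab (B : List ℕ) : Subgroup ↥Hgrp where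
  carrier := {g | ∀ c ∈ B, act g c = c}
  one_mem' := fun c _ => act_one c
  mul_mem' := fun {g h} hg hh c hc => by rw [act_mul, hh c hc, hg c hc]
  inv_mem' := fun {g} hg c hc => by
    conv_lhs => rw [← hg c hc]
    exact act_inv_act g c

/-- the facts about a chain -/
structure Good (C : ChainData) : Prop where
  levels : ∀ l < 4, levelOK C l = true
  invs : ∀ l < 3, invsOK C l = true
  depth : ∀ l < 3, depthOK C l = true
  length : C.base.length = 4

variable {C : ChainData}

theorem Good.level_facts (hC : Good C) {l : ℕ} (hl : l < 4) :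
    C.base.getD l 0 < 4060 ∧ get 12 (C.pts.getD l []) 0 = C.base.getD l 0 ∧
    (∀ s ∈ C.gens.getD l [], s < 42 ∧ el s ∈ stab (C.base.take l)) ∧
    (∀ k < sizes.getD l 0, get 12 (C.pts.getD l []) k < 4060 ∧
      (C.mask.getD l 0).testBit (get 12 (C.pts.getD l []) k) = true ∧
      (k ≠ 0 → get 12 (C.par.getD l []) k < k ∧
        get 12 (C.lab.getD l []) k < (C.gens.getD l []).length ∧
        tb ((C.gens.getD l []).getD (get 12 (C.lab.getD l []) k) 0)
          (get 12 (C.pts.getD l []) (get 12 (C.par.getD l []) k)) = get 12 (C.pts.getD l []) k)) ∧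
    ∀ i j, i < sizes.getD l 0 → j < sizes.getD l 0 →
      get 12 (C.pts.getD l []) i = get 12 (C.pts.getD l []) j → i = j := by
  have h := hC.levels l hl
  simp only [levelOK, lettersOK, Bool.and_eq_true, List.all_eq_true, Nat.blt_eq, Nat.beq_eq,
    List.mem_range, Bool.or_eq_true] at h
  obtain ⟨⟨⟨⟨⟨hg, hb⟩, h0⟩, hfix⟩, hk⟩, hnd⟩ := h
  refine ⟨hb, h0, fun s hs => ⟨hg s hs, fun c hc => ?_⟩, fun k hk' => ?_,
    fun i j hi hj e => noRep_range hnd hi hj e⟩
  · have hc4 : c < 4060 := by
      obtain ⟨m, hm, rfl⟩ := List.mem_iff_getElem.1 hc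
      rw [List.length_take] at hm
      rw [List.getElem_take, ← List.getD_eq_getElem _ 0]
      have := hC.levels m (by omega)
      simp only [levelOK, Bool.and_eq_true, Nat.blt_eq] at this
      exact this.1.1.1.1.2
    rw [el_spec (hg s hs) c hc4, hfix s hs c hc]
  · obtain ⟨⟨h1, h2⟩, h3⟩ := hk k hk'
    exact ⟨h1, h2, fun hne => ⟨(h3.resolve_left hne).1.1, (h3.resolve_left hne).1.2, (h3.resolve_left hne).2⟩⟩

theorem Good.reaches (hC : Good C) {l : ℕ} (hl : l < 4) : ∀ k < sizes.getD l 0,
    ∃ u ∈ stab (C.base.take l), act u (C.base.getD l 0) = get 12 (C.pts.getD l []) k := by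
  obtain ⟨-, h0, hg, hk, -⟩ := hC.level_facts hl
  intro k
  induction k using Nat.strong_induction_on with
  | _ k ih =>
    intro hkn
    by_cases hk0 : k = 0
    · subst hk0; exact ⟨1, one_mem _, by rw [act_one, h0]⟩
    · obtain ⟨hp, hlab, he⟩ := (hk k hkn).2.2 hk0
      obtain ⟨u, hu, hue⟩ := ih _ hp (hp.trans hkn)
      have hm : (C.gens.getD l []).getD (get 12 (C.lab.getD l []) k) 0 ∈ C.gens.getD l [] := by
        rw [List.getD_eq_getElem _ _ hlab]; exact List.getElem_mem _
      obtain ⟨hs, hst⟩ := hg _ hm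
      refine ⟨el _ * u, mul_mem hst hu, ?_⟩
      rw [act_mul, hue, el_spec hs _ (hk _ (hp.trans hkn)).1, he]

theorem Good.take_succ (hC : Good C) {l : ℕ} (hl : l < 4) :
    C.base.take (l + 1) = C.base.take l ++ [C.base.getD l 0] := by
  rw [List.getD_eq_getElem _ _ (hC.length ▸ hl)]
  exact (List.take_succ_eq_append_getElem _)

/-- the orbit of a base point -/
def orb (C : ChainData) (l : ℕ) : Set ℕ := {y | ∃ g ∈ stab (C.base.take l), act g (C.base.getD l 0) = y}

theorem Good.step (hC : Good C) {l : ℕ} (hl : l < 4) :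
    sizes.getD l 0 ≤ (orb C l).ncard ∧
      (orb C l).ncard * Nat.card ↥(stab (C.base.take (l + 1))) ≤ Nat.card ↥(stab (C.base.take l)) ∧
      (orb C l).Finite := by
  classical
  obtain ⟨hb, -, -, hk, hinj⟩ := hC.level_facts hl
  have hfin : (orb C l).Finite :=
    (Set.finite_Iio 4060).subset fun y ⟨g, _, e⟩ => e ▸ act_lt g hb
  refine ⟨?_, ?_, hfin⟩
  · have hsub : (fun k => get 12 (C.pts.getD l []) k) '' Set.Iio (sizes.getD l 0) ⊆ orb C l := by
      rintro _ ⟨k, hk', rfl⟩
      exact hC.reaches hl k hk'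
    refine le_trans (le_of_eq ?_) (Set.ncard_le_ncard hsub hfin)
    have hio : Set.InjOn (fun k => get 12 (C.pts.getD l []) k) (Set.Iio (sizes.getD l 0)) :=
      fun i hi j hj e => hinj i j hi hj e
    rw [hio.ncard_image, ← Finset.coe_Iio, Set.ncard_coe_finset, Nat.card_Iio]
  · haveI := hfin.to_subtype
    rw [← Nat.card_coe_set_eq, ← Nat.card_prod]
    refine Nat.card_le_card_of_injective
      (fun q => ⟨(q.1.2.choose) * (q.2 : ↥Hgrp), mul_mem q.1.2.choose_spec.1 fun c hc =>
        q.2.2 c (by rw [hC.take_succ hl]; exact List.mem_append_left _ hc)⟩) ?_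
    rintro ⟨y, s⟩ ⟨y', s'⟩ e
    have e' := congrArg Subtype.val e
    simp only at e'
    have hy : (y : ℕ) = y' := by
      have := congrArg (fun g => act g (C.base.getD l 0)) e'
      simp only [act_mul] at this
      rwa [s.2 _ (by rw [hC.take_succ hl]; simp), s'.2 _ (by rw [hC.take_succ hl]; simp),
        y.2.choose_spec.2, y'.2.choose_spec.2] at this
    obtain rfl := Subtype.ext hy
    exact Prod.ext rfl (Subtype.ext (mul_left_cancel e'))

theorem counting {o0 o1 o2 o3 z z1 z2 z3 : ℕ} (a0 : 4060 ≤ o0) (a1 : 2304 ≤ o1) (a2 : 975 ≤ o2)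
    (a3 : 16 ≤ o3) (hz : 0 < z) (c3 : o3 * z ≤ z3) (c2 : o2 * z3 ≤ z2) (c1 : o1 * z2 ≤ z1)
    (c0 : o0 * z1 ≤ 145926144000) : o0 = 4060 ∧ o1 = 2304 ∧ o2 = 975 ∧ o3 = 16 ∧ z = 1 := by
  have key : o0 * o1 * o2 * o3 * z ≤ 145926144000 :=
    calc o0 * o1 * o2 * o3 * z = o0 * (o1 * (o2 * (o3 * z))) := by ring
      _ ≤ o0 * (o1 * (o2 * z3)) := by gcongr
      _ ≤ o0 * (o1 * z2) := by gcongr
      _ ≤ o0 * z1 := by gcongr
      _ ≤ _ := c0
  have kz : 4060 * 2304 * 975 * 16 * z ≤ o0 * o1 * o2 * o3 * z := by gcongr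
  have hz1 : z = 1 := by omega
  subst hz1
  have k3 : 4060 * 2304 * 975 * o3 * 1 ≤ o0 * o1 * o2 * o3 * 1 := by gcongr
  have k2 : 4060 * 2304 * o2 * 16 * 1 ≤ o0 * o1 * o2 * o3 * 1 := by gcongr
  have k1 : 4060 * o1 * 975 * 16 * 1 ≤ o0 * o1 * o2 * o3 * 1 := by gcongr
  have k0 : o0 * 2304 * 975 * 16 * 1 ≤ o0 * o1 * o2 * o3 * 1 := by gcongr
  refine ⟨?_, ?_, ?_, ?_, rfl⟩ <;> omega

theorem Good.exact_orbits (hC : Good C) :
    (∀ l < 4, (orb C l).ncard = sizes.getD l 0) ∧ Nat.card ↥(stab C.base) = 1 := by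
  obtain ⟨a0, c0, -⟩ := hC.step (l := 0) (by norm_num)
  obtain ⟨a1, c1, -⟩ := hC.step (l := 1) (by norm_num)
  obtain ⟨a2, c2, -⟩ := hC.step (l := 2) (by norm_num)
  obtain ⟨a3, c3, -⟩ := hC.step (l := 3) (by norm_num)
  have htop : Nat.card ↥(stab (C.base.take 0)) ≤ 145926144000 := by
    rw [← Rud.card_Hgrp]; exact Subgroup.card_le_card_group _
  have hlast : C.base.take (3 + 1) = C.base := List.take_of_length_le (by rw [hC.length])
  rw [hlast] at c3
  have hpos : 0 < Nat.card ↥(stab C.base) := Nat.card_pos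
  simp only [sizes, List.getD_cons_zero, List.getD_cons_succ] at a0 a1 a2 a3
  simp only [zero_add, Nat.reduceAdd] at c0 c1 c2
  obtain ⟨e0, e1, e2, e3, ez⟩ := counting a0 a1 a2 a3 hpos c3 c2 c1 (c0.trans htop)
  refine ⟨fun l hl => ?_, ez⟩
  interval_cases l <;> simp only [sizes, List.getD_cons_zero, List.getD_cons_succ] <;> assumption

theorem Good.stab_eq_bot (hC : Good C) {g : ↥Hgrp} (h : g ∈ stab C.base) : g = 1 := by
  have := (Subgroup.card_eq_one.1 hC.exact_orbits.2)
  rwa [this, Subgroup.mem_bot] at h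

/-- elements agreeing on the base are equal -/
theorem Good.eq_of_base (hC : Good C) {g h : ↥Hgrp} (e : ∀ c ∈ C.base, act g c = act h c) : g = h :=
  (inv_mul_eq_one.1 (hC.stab_eq_bot fun c hc => by rw [act_mul, e c hc, act_inv_act])).symm ▸ rfl

theorem Good.orbit_pts (hC : Good C) {l : ℕ} (hl : l < 4) {y : ℕ} (hy : y ∈ orb C l) :
    ∃ k < sizes.getD l 0, get 12 (C.pts.getD l []) k = y := by
  obtain ⟨-, -, -, hk, hinj⟩ := hC.level_facts hl
  have hsub : (fun k => get 12 (C.pts.getD l []) k) '' Set.Iio (sizes.getD l 0) ⊆ orb C l := by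
    rintro _ ⟨k, hk', rfl⟩
    exact hC.reaches hl k hk'
  have hio : Set.InjOn (fun k => get 12 (C.pts.getD l []) k) (Set.Iio (sizes.getD l 0)) :=
    fun i hi j hj e => hinj i j hi hj e
  have heq := Set.eq_of_subset_of_ncard_le hsub (by
    rw [hC.exact_orbits.1 l hl, hio.ncard_image, ← Finset.coe_Iio, Set.ncard_coe_finset,
      Nat.card_Iio]) (hC.step hl).2.2
  rw [← heq] at hy
  obtain ⟨k, hk', e⟩ := hy
  exact ⟨k, hk', e⟩

theorem Good.back_spec (hC : Good C) {l : ℕ} (hl : l < 3) : ∀ fuel k, k < sizes.getD l 0 →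
    (fun a => if Nat.beq a 0 then 0 else get 12 (C.par.getD l []) a)^[fuel] k = 0 →
    ∃ u ∈ stab (C.base.take l), act u (C.base.getD l 0) = get 12 (C.pts.getD l []) k ∧
      ∀ t : List ℕ, (∀ a ∈ t, a < 4060) →
        back (C.invs.getD l []) (C.par.getD l []) (C.lab.getD l []) fuel k t = t.map (act u⁻¹) := by
  obtain ⟨-, h0, hg, hk, -⟩ := hC.level_facts (show l < 4 by omega)
  have hid : ∀ t : List ℕ, t.map (act (1 : ↥Hgrp)⁻¹) = t := fun t => by
    rw [inv_one, show act (1 : ↥Hgrp) = id from funext act_one, List.map_id]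
  intro fuel
  induction fuel with
  | zero =>
    intro k _ h
    simp only [Function.iterate_zero, id_eq] at h
    subst h
    exact ⟨1, one_mem _, by rw [act_one, h0], fun t _ => (hid t).symm⟩
  | succ fuel ih =>
    intro k hkn h
    rw [Function.iterate_succ_apply] at h
    by_cases hk0 : k = 0
    · subst hk0
      exact ⟨1, one_mem _, by rw [act_one, h0], fun t _ => (hid t).symm⟩
    · obtain ⟨hp, hlab, he⟩ := (hk k hkn).2.2 hk0
      have hbeq : Nat.beq k 0 = false := by
        cases hh : Nat.beq k 0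
        · rfl
        · exact absurd (Nat.eq_of_beq_eq_true hh) hk0
      rw [hbeq] at h
      obtain ⟨u, hu, hue, hback⟩ := ih _ (hp.trans hkn) h
      set q := get 12 (C.lab.getD l []) k
      have hm : (C.gens.getD l []).getD q 0 ∈ C.gens.getD l [] := by
        rw [List.getD_eq_getElem _ _ hlab]; exact List.getElem_mem _
      obtain ⟨hs, hst⟩ := hg _ hm
      have hi := hC.invs l hl
      simp only [invsOK, forceN_eq] at hi
      have hq := Compute.allBelow_eq_true.mp hi q hlab
      simp only [Bool.and_eq_true, Nat.blt_eq] at hq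
      obtain ⟨hsi, hq⟩ := hq
      have hinv : ∀ a < 4060, tb ((C.invs.getD l []).getD q 0) a = act (el ((C.gens.getD l []).getD q 0))⁻¹ a := by
        intro a ha
        have ha' := act_lt (el ((C.gens.getD l []).getD q 0))⁻¹ ha
        have h1 := Nat.eq_of_beq_eq_true (Compute.allBelow_eq_true.mp hq _ ha')
        change tb _ (tb _ _) = _ at h1
        rwa [← el_spec hs _ ha', act_act_inv] at h1
      refine ⟨el ((C.gens.getD l []).getD q 0) * u, mul_mem hst hu, ?_, fun t ht => ?_⟩
      · rw [act_mul, hue, el_spec hs _ (hk _ (hp.trans hkn)).1, he]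
      · simp only [back, hbeq, Bool.false_eq_true, if_false, forceN_eq, forceL_eq]
        have e : t.map (pk 12 (code ((C.invs.getD l []).getD q 0))) =
            t.map (act (el ((C.gens.getD l []).getD q 0))⁻¹) :=
          List.map_congr_left fun a ha => hinv a (ht a ha)
        rw [e, hback _ fun a ha => by
          obtain ⟨b, hb, rfl⟩ := List.mem_map.1 ha
          exact act_lt _ (ht b hb), List.map_map]
        exact List.map_congr_left fun a _ => by rw [Function.comp_apply, mul_inv_rev, act_mul]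

theorem Good.no_fail (hC : Good C) : ∀ more l, l + more = 4 → ∀ t c, failB C more l t c = true →
    ∀ g ∈ stab (C.base.take l), t ≠ (C.base.drop l).map (act g) := by
  intro more
  induction more with
  | zero => intro l _ t c h; simp [failB] at h
  | succ more ih =>
    intro l hl t c h g hg he
    obtain ⟨hb, -, -, hk, -⟩ := hC.level_facts (show l < 4 by omega)
    have hd : C.base.drop l = C.base.getD l 0 :: C.base.drop (l + 1) := by
      rw [List.getD_eq_getElem _ _ (by rw [hC.length]; omega)]
      exact List.drop_eq_getElem_cons (by rw [hC.length]; omega)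
    rw [hd, List.map_cons] at he
    obtain ⟨k, hk', hke⟩ := hC.orbit_pts (show l < 4 by omega) ⟨g, hg, rfl⟩
    subst he
    simp only [failB, List.getD_cons_zero, List.tail_cons, Bool.or_eq_true, Bool.not_eq_true',
      Bool.and_eq_true, Nat.blt_eq, Nat.beq_eq] at h
    rcases h with h | ⟨⟨hkc, hpc⟩, h⟩
    · rw [← hke, (hk k hk').2.1] at h
      exact Bool.noConfusion h
    · by_cases hl3 : l = 3
      · subst hl3
        rw [show more = 0 by omega] at h
        simp [failB] at h
      · have hdep : depthOK C l = true := hC.depth l (by omega)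
        simp only [depthOK, List.all_eq_true, List.mem_range, Nat.beq_eq] at hdep
        have hit : ∀ (f : ℕ → ℕ) (n a : ℕ), (List.range n).foldl (fun x _ => f x) a = f^[n] a := by
          intro f n a
          induction n with
          | zero => rfl
          | succ n ih => rw [List.range_succ, List.foldl_append, ih, Function.iterate_succ_apply']; rfl
        obtain ⟨fuel, hfuel⟩ : ∃ n, n = 64 := ⟨_, rfl⟩
        rw [← hfuel] at hdep h
        have hd' := hdep _ hkc
        rw [hit (fun a => if a = 0 then 0 else get 12 (C.par.getD l []) a),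
          show (fun a => if a = 0 then 0 else get 12 (C.par.getD l []) a) =
              fun a => if Nat.beq a 0 then 0 else get 12 (C.par.getD l []) a from
            funext fun a => by simp only [Nat.beq_eq]] at hd'
        obtain ⟨u, hu, hue, hback⟩ := hC.back_spec (show l < 3 by omega) fuel _ hkc hd'
        rw [hback _ fun a ha => by
          obtain ⟨b, hb', rfl⟩ := List.mem_map.1 ha
          obtain ⟨i, hi, rfl⟩ := List.mem_iff_getElem.1 hb'
          rw [List.length_drop, hC.length] at hi
          rw [List.getElem_drop, ← List.getD_eq_getElem _ 0]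
          exact act_lt _ (hC.level_facts (by omega)).1] at h
        refine ih (l + 1) (by omega) _ _ h (u⁻¹ * g) ?_ ?_
        · intro a ha
          rw [hC.take_succ (by omega), List.mem_append, List.mem_singleton] at ha
          rw [act_mul]
          rcases ha with ha | rfl
          · rw [hg a ha]; exact inv_mem hu a ha
          · rw [← hpc, ← hue, act_inv_act]
        · rw [List.map_map]
          exact List.map_congr_left fun a _ => by rw [Function.comp_apply, act_mul]

theorem powT_eq {g : ↥Hgrp} {s : ℕ} (hg : Realises g s) {p : ℕ} (hp : p < 4060) :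
    ∀ e, powT s e p = act (g ^ e) p ∧ powT s e p < 4060
  | 0 => by rw [pow_zero, act_one]; exact ⟨rfl, hp⟩
  | e + 1 => by
    obtain ⟨h1, h2⟩ := powT_eq hg hp e
    show tb s (powT s e p) = _ ∧ tb s (powT s e p) < 4060
    rw [← hg _ h2, h1, ← act_mul, pow_succ']
    exact ⟨rfl, act_lt _ hp⟩

/-- an element commuting with a listed one is one of the listed words -/
theorem centraliser_cases (hC : Good C) {sl start : ℕ} (hsl : sl < 42) {es : List ℕ} {els : List (List ℕ)}
    {cert : List ℕ} (hbase : baseOK C sl start es = true)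
    (hels : ∀ w ∈ els, ∀ s ∈ w, s < 42)
    (hcand : ∀ p < 4060, candOK C sl es els cert p = true) {g : ↥Hgrp} (hg : g * el sl = el sl * g) :
    ∃ w ∈ els, g = elW w := by
  simp only [baseOK, Bool.and_eq_true, Nat.beq_eq, Nat.blt_eq, List.all_eq_true, List.mem_range] at hbase
  obtain ⟨⟨⟨-, hes⟩, hst⟩, hb⟩ := hbase
  have hp := act_lt g hst
  have h := hcand _ hp
  simp only [candOK, forceN_eq, forceL_eq] at h
  have htg : ∀ i < 4, (es.map fun e => powT sl e (act g start)).getD i 0 = act g (C.base.getD i 0) := by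
    intro i hi
    rw [List.getD_eq_getElem _ _ (by rw [List.length_map, hes]; exact hi), List.getElem_map, hb i hi,
      List.getD_eq_getElem _ _ (hes ▸ hi), (powT_eq (el_spec hsl) hst _).1,
      (powT_eq (el_spec hsl) hp _).1, ← act_mul, ← act_mul, (Commute.pow_right hg _).eq]
  split_ifs at h with hodd
  · simp only [Bool.and_eq_true, Nat.blt_eq, List.all_eq_true, List.mem_range, Nat.beq_eq] at h
    obtain ⟨hj, himg⟩ := h
    refine ⟨_, List.getElem_mem hj, hC.eq_of_base fun c hc => ?_⟩
    obtain ⟨i, hi, rfl⟩ := List.mem_iff_getElem.1 hc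
    rw [hC.length] at hi
    have h1 := himg i hi
    rw [htg i hi, List.getD_eq_getElem _ _ hj] at h1
    rw [← List.getD_eq_getElem _ 0, ← h1, elW_act (hels _ (List.getElem_mem hj)) (hC.level_facts hi).1]
  · exfalso
    refine hC.no_fail 4 0 rfl _ _ h g (fun c hc => by simp at hc) ?_
    refine List.ext_getElem (by rw [List.length_map, List.length_map, hes]; simp [hC.length]) fun i h1 h2 => ?_
    have hi : i < 4 := by rw [List.length_map, hes] at h1; exact h1
    have := htg i hi
    rw [List.getD_eq_getElem _ _ h1] at this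
    rw [this, List.getD_eq_getElem _ _ (show i < C.base.length by rw [hC.length]; exact hi)]
    simp

theorem good_X : Good chainX where
  levels l hl := by interval_cases l; exacts [levelX0, levelX1, levelX2, levelX3]
  invs l hl := allFrom_spec invsX_ok (Nat.zero_le _) hl
  depth l hl := allFrom_spec depthX_ok (Nat.zero_le _) hl
  length := rfl

theorem good_H : Good chainH where
  levels l hl := by interval_cases l; exacts [levelH0, levelH1, levelH2, levelH3]
  invs l hl := allFrom_spec invsH_ok (Nat.zero_le _) hl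
  depth l hl := allFrom_spec depthH_ok (Nat.zero_le _) hl
  length := rfl

end Cfsg.Agent.RudOut
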