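import Mathlib
import Cfsg.Agent.RudOut.Defs

/-! A relation that tells the two classes of elements of order 29 apart. -/

set_option autoImplicit false
set_option maxRecDepth 100000

namespace Cfsg.Agent.RudOut

theorem sep_ok : eqB ((List.replicate 5 [xI, vI, xI, xI, xI, xI, xI, vI]).flatten) [] = true ∧
    elsH.all (fun w => !eqB (w ++ w) [] || eqB w [] ||
      !eqB ((List.replicate 5 ([xI, xI] ++ w ++ List.replicate 10 xI ++ w)).flatten) []) = true := by
  decide +kernel

end Cfsg.Agent.RudOut
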