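import Mathlib
import Cfsg.Prelude.Def_KGroupFacts
import Cfsg.Agent.Rud.Simple
import Cfsg.Agent.RudOut.Chain
import Cfsg.Agent.RudOut.CheckSep

/-! Every automorphism of the group on 4060 lines is inner. -/

set_option autoImplicit false
set_option maxRecDepth 100000
set_option maxHeartbeats 1000000

namespace Cfsg.Agent.RudOut

open Cfsg.Agent.Rud (Hgrp hgen hgen_apply genOK0 genOK1)

theorem eqB_iff {a b : List ℕ} (ha : ∀ s ∈ a, s < 42) (hb : ∀ s ∈ b, s < 42) :
    eqB a b = true ↔ elW a = elW b := by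
  have hlt : ∀ p ∈ chainX.base, p < 4060 := fun p hp => by
    obtain ⟨i, hi, rfl⟩ := List.mem_iff_getElem.1 hp
    rw [← List.getD_eq_getElem _ 0]
    exact (good_X.level_facts (by simpa [good_X.length] using hi)).1
  simp only [eqB, List.all_eq_true, Nat.beq_eq]
  refine ⟨fun h => good_X.eq_of_base fun c hc => ?_, fun h p hp => ?_⟩
  · rw [elW_act ha (hlt c hc), elW_act hb (hlt c hc)]
    exact h c hc
  · rw [← elW_act ha (hlt p hp), ← elW_act hb (hlt p hp), h]

theorem idx_lt : xI < 42 ∧ hI < 42 ∧ vI < 42 := by decide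

theorem elW_append (a b : List ℕ) : elW (a ++ b) = elW a * elW b := by simp [elW]

theorem elW_single (s : ℕ) : elW [s] = el s := by simp [elW]

theorem elW_nil : elW [] = 1 := rfl

theorem elW_rep (w : List ℕ) : ∀ n, elW (List.replicate n w).flatten = elW w ^ n
  | 0 => by simp [elW]
  | n + 1 => by rw [List.replicate_succ, List.flatten_cons, elW_append, elW_rep w n, pow_succ']

theorem elW_pow (s n : ℕ) : elW (List.replicate n s) = el s ^ n := by simp [elW]

/-- the facts about the three elements -/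
theorem three : orderOf (el xI) = 29 ∧ el hI * el xI * (el hI)⁻¹ = el xI ^ 5 ∧
    el vI * el vI = 1 ∧ el vI ≠ 1 ∧ el vI * el hI = el hI * el vI ∧ (el xI * el vI) ^ 29 = 1 := by
  obtain ⟨-, -, -, -, -, hx5, hx29, hx1, hv2, hv1, hhv, hxv, -⟩ := els_ok
  obtain ⟨hx, hh, hv⟩ := idx_lt
  have L : ∀ w : List ℕ, (∀ s ∈ w, s = xI ∨ s = hI ∨ s = vI) → ∀ s ∈ w, s < 42 := fun w h s hs => by
    rcases h s hs with rfl | rfl | rfl <;> assumption
  rw [eqB_iff (L _ (by simp)) (L _ (by simp))] at hx5 hv2 hhv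
  rw [eqB_iff (L _ fun s hs => Or.inl (List.eq_of_mem_replicate hs)) (by simp)] at hx29
  rw [eqB_iff (L _ fun s hs => by
      obtain ⟨w, hw, hs⟩ := List.mem_flatten.1 hs
      rw [List.eq_of_mem_replicate hw] at hs
      simp only [List.mem_cons, List.not_mem_nil, or_false] at hs
      tauto) (by simp), elW_rep, elW_nil] at hxv
  have hne : el xI ≠ 1 := fun e => by
    have := (eqB_iff (L [xI] (by simp)) (L [] (by simp))).2 (by rw [elW_single, elW_nil, e])
    rw [hx1] at this
    exact Bool.noConfusion this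
  have hvne : el vI ≠ 1 := fun e => by
    have := (eqB_iff (L [vI] (by simp)) (L [] (by simp))).2 (by rw [elW_single, elW_nil, e])
    rw [hv1] at this
    exact Bool.noConfusion this
  rw [elW_pow, elW_nil] at hx29
  have := Fact.mk (show Nat.Prime 29 by norm_num)
  refine ⟨orderOf_eq_prime hx29 hne, ?_, by simpa [elW] using hv2, hvne, ?_, by simpa [elW] using hxv⟩
  · simp only [elW, List.map_cons, List.map_nil, List.prod_cons, List.prod_nil, mul_one] at hx5
    rw [mul_inv_eq_iff_eq_mul, hx5]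
    simp only [pow_succ, pow_zero, one_mul, mul_assoc]
  · simp only [elW, List.map_cons, List.map_nil, List.prod_cons, List.prod_nil, mul_one] at hhv
    exact hhv.symm

theorem flagged_mem : ∀ s, s ∈ flagged → s < 42 →
    el s ∈ Subgroup.closure ({el xI, el vI} : Set ↥Hgrp) := by
  intro s
  induction s using Nat.strong_induction_on with
  | _ s ih =>
    intro hs hs42
    have h := List.all_eq_true.1 flag_ok s hs
    simp only [Bool.or_eq_true, Nat.beq_eq, Bool.and_eq_true, List.all_eq_true, List.any_eq_true,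
      bne_iff_ne] at h
    rcases h with (rfl | rfl) | ⟨hkind, hmem⟩
    · exact Subgroup.subset_closure (by simp)
    · exact Subgroup.subset_closure (by simp)
    · obtain ⟨hr, hent⟩ := table_facts hs42
      have hlt : ∀ t ∈ (recipes.getD s (3, [])).2,
          t < s ∧ el t ∈ Subgroup.closure ({el xI, el vI} : Set ↥Hgrp) := fun t ht => by
        have hts : t < s := by
          simp only [recipeOK] at hr
          split_ifs at hr with h0 h1
          · exact Nat.blt_eq.mp (List.all_eq_true.1 hr t ht)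
          · simp only [Bool.and_eq_true] at hr
            exact Nat.blt_eq.mp (List.all_eq_true.1 hr.2 t ht)
          · simp only [Bool.and_eq_true, Nat.beq_eq] at hr
            exact absurd hr.1 hkind
        obtain ⟨u, hu, rfl⟩ := hmem t ht
        exact ⟨hts, ih _ hts hu (hts.trans hs42)⟩
      simp only [recipeOK] at hr
      split_ifs at hr with h0 h1
      · have e : el s = ((recipes.getD s (3, [])).2.map el).prod := ext_act fun i hi => by
          rw [el_spec hs42 i hi, word_act _ (fun t ht => el_spec ((hlt t ht).1.trans hs42)) i hi,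
            (hent i hi).2.1 h0]
        rw [e]
        refine list_prod_mem fun y hy => ?_
        obtain ⟨t, ht, rfl⟩ := List.mem_map.1 hy
        exact (hlt t ht).2
      · simp only [Bool.and_eq_true, Nat.beq_eq] at hr
        obtain ⟨t, ht⟩ := List.length_eq_one_iff.1 hr.1
        obtain ⟨htlt, htm⟩ := hlt t (by rw [ht]; simp)
        have e : el s = (el t)⁻¹ := ext_act fun i hi => by
          rw [el_spec hs42 i hi]
          have h := (hent i hi).2.2.1 h1
          rw [ht, List.getD_cons_zero, ← el_spec (htlt.trans hs42) _ (hent i hi).1] at h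
          conv_rhs => rw [← h]
          exact (act_inv_act _ _).symm
        rw [e]
        exact inv_mem htm
      · simp only [Bool.and_eq_true, Nat.beq_eq] at hr
        exact absurd hr.1 hkind

theorem generated : Subgroup.closure ({el xI, el vI} : Set ↥Hgrp) = ⊤ := by
  obtain ⟨-, -, hmem, hg0, hg1, -⟩ := els_ok
  have hfl : ∀ s ∈ flagged, s < 42 := by decide
  have hword : ∀ k, k < 2 → elW (genWords.getD k []) ∈ Subgroup.closure ({el xI, el vI} : Set ↥Hgrp) ∧
      (∀ s ∈ genWords.getD k [], s < 42) := by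
    intro k hk
    have hk' : k < genWords.length := by simpa [genWords] using hk
    rw [List.getD_eq_getElem _ _ hk']
    have hin : ∀ s ∈ genWords[k], s ∈ flagged := fun s hs => by
      have h := List.all_eq_true.1 (List.all_eq_true.1 hmem _ (List.getElem_mem hk')) s hs
      simp only [List.any_eq_true, Nat.beq_eq] at h
      obtain ⟨u, hu, rfl⟩ := h
      exact hu
    refine ⟨list_prod_mem fun y hy => ?_, fun s hs => hfl s (hin s hs)⟩
    obtain ⟨s, hs, rfl⟩ := List.mem_map.1 hy
    exact flagged_mem s (hin s hs) (hfl s (hin s hs))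
  have e0 := (eqB_iff (hword 0 (by norm_num)).2 (by simp)).1 hg0
  have e1 := (eqB_iff (hword 1 (by norm_num)).2 (by simp)).1 hg1
  rw [elW_single] at e0 e1
  have r : ∀ s, s < 2 → ∀ i < 4060, tb s i = Rud.limg s i := fun s hs i hi => by
    obtain ⟨hr, hent⟩ := table_facts (show s < 42 by omega)
    refine (hent i hi).2.2.2 ?_
    interval_cases s <;> decide
  have g0 : el 0 = ⟨hgen genOK0, Subgroup.subset_closure (by simp)⟩ := ext_act fun i hi => by
    rw [el_spec (by norm_num) i hi, r 0 (by norm_num) i hi, act, dif_pos hi, hgen_apply]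
  have g1 : el 1 = ⟨hgen genOK1, Subgroup.subset_closure (by simp)⟩ := ext_act fun i hi => by
    rw [el_spec (by norm_num) i hi, r 1 (by norm_num) i hi, act, dif_pos hi, hgen_apply]
  rw [eq_top_iff]
  rintro ⟨g, hg⟩ -
  change g ∈ Subgroup.closure {hgen genOK0, hgen genOK1} at hg
  induction hg using Subgroup.closure_induction with
  | mem x hx =>
    rcases hx with rfl | rfl
    · exact g0 ▸ e0 ▸ (hword 0 (by norm_num)).1
    · exact g1 ▸ e1 ▸ (hword 1 (by norm_num)).1
  | one => exact one_mem _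
  | mul x y hx hy ihx ihy => exact mul_mem ihx ihy
  | inv x hx ih => exact inv_mem ih

theorem commute_x {g : ↥Hgrp} (h : g * el xI = el xI * g) : ∃ m : ℕ, g = el xI ^ m := by
  have hels : ∀ w ∈ elsX, ∀ s ∈ w, s = xI := fun w hw s hs =>
    Nat.eq_of_beq_eq_true (List.all_eq_true.1 (List.all_eq_true.1 els_ok.1 w hw) s hs)
  obtain ⟨w, hw, rfl⟩ := centraliser_cases good_X idx_lt.1 baseX_ok
    (fun w hw s hs => (hels w hw s hs).symm ▸ idx_lt.1)
    (fun p hp => chunks (len := 1015) (cnt := 4) (by norm_num)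
      (fun c hc => by interval_cases c; exacts [candX_ok0, candX_ok1, candX_ok2, candX_ok3]) (by omega)) h
  exact ⟨w.length, by rw [List.eq_replicate_length.2 (hels w hw), elW_pow, List.length_replicate]⟩

theorem commute_h {g : ↥Hgrp} (h : g * el hI = el hI * g) (h2 : g * g = 1) (h1 : g ≠ 1) :
    ((el xI * g) ^ 29 = 1 → g = el vI) ∧
      (el xI ^ 2 * g * el xI ^ 10 * g) ^ 5 ≠ 1 := by
  have hels : ∀ w ∈ elsH, ∀ s ∈ w, s < 42 := fun w hw s hs =>
    Nat.blt_eq.mp (List.all_eq_true.1 (List.all_eq_true.1 els_ok.2.1 w hw) s hs)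
  obtain ⟨w, hw, rfl⟩ := centraliser_cases good_H idx_lt.2.1 baseH_ok hels
    (fun p hp => chunks (len := 1015) (cnt := 4) (by norm_num)
      (fun c hc => by interval_cases c; exacts [candH_ok0, candH_ok1, candH_ok2, candH_ok3]) (by omega)) h
  have hk := List.all_eq_true.1 els_ok.2.2.2.2.2.2.2.2.2.2.2.2 w hw
  have hwl := hels w hw
  have hx' : ∀ s ∈ xI :: w, s < 42 := by
    intro s hs
    rcases List.mem_cons.1 hs with rfl | hs
    exacts [idx_lt.1, hwl s hs]
  have hrep : ∀ s ∈ (List.replicate 29 (xI :: w)).flatten, s < 42 := fun s hs => by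
    obtain ⟨u, hu, hs⟩ := List.mem_flatten.1 hs
    rw [List.eq_of_mem_replicate hu] at hs
    exact hx' s hs
  have e2 : eqB (w ++ w) [] = true :=
    (eqB_iff (fun s hs => (List.mem_append.1 hs).elim (hwl s) (hwl s)) (by simp)).2
      (by rw [elW_append, h2, elW_nil])
  have e1 : eqB w [] = false := by
    cases hh : eqB w []
    · rfl
    · exact absurd ((eqB_iff hwl (by simp)).1 hh) h1
  refine ⟨fun h29 => ?_, fun h5 => ?_⟩
  · have e29 : eqB (List.replicate 29 (xI :: w)).flatten [] = true := by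
      refine (eqB_iff hrep (by simp)).2 ?_
      rw [elW_rep, elW_nil, show elW (xI :: w) = el xI * elW w by simp [elW]]
      exact h29
    simp only [kindOK, e2, e1, e29, Bool.not_true, Bool.false_or] at hk
    rw [(eqB_iff hwl (by simp [idx_lt.2.2])).1 hk, elW_single]
  · have hs := List.all_eq_true.1 sep_ok.2 w hw
    have hw' : ∀ s ∈ [xI, xI] ++ w ++ List.replicate 10 xI ++ w, s < 42 := fun s hs' => by
      simp only [List.mem_append, List.mem_cons, List.not_mem_nil, or_false, List.mem_replicate] at hs'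
      rcases hs' with ((h' | h') | h') | h'
      · rcases h' with rfl | rfl <;> exact idx_lt.1
      · exact hwl s h'
      · exact h'.2 ▸ idx_lt.1
      · exact hwl s h'
    have e5 : eqB (List.replicate 5 ([xI, xI] ++ w ++ List.replicate 10 xI ++ w)).flatten [] = true := by
      refine (eqB_iff (fun s hs' => ?_) (by simp)).2 ?_
      · obtain ⟨u, hu, hs'⟩ := List.mem_flatten.1 hs'
        rw [List.eq_of_mem_replicate hu] at hs'
        exact hw' s hs'
      · rw [elW_rep, elW_nil, elW_append, elW_append, elW_append, elW_pow,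
          show elW [xI, xI] = el xI ^ 2 by simp [elW, pow_two]]
        exact h5
    simp only [e2, e1, e5, Bool.not_true, Bool.false_or] at hs
    exact Bool.noConfusion hs

theorem sep_v : (el xI * el vI * el xI ^ 5 * el vI) ^ 5 = 1 := by
  have hL : ∀ s ∈ (List.replicate 5 [xI, vI, xI, xI, xI, xI, xI, vI]).flatten, s < 42 := by
    intro s hs
    obtain ⟨u, hu, hs⟩ := List.mem_flatten.1 hs
    rw [List.eq_of_mem_replicate hu] at hs
    simp only [List.mem_cons, List.not_mem_nil, or_false] at hs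
    rcases hs with rfl | rfl | rfl | rfl | rfl | rfl | rfl | rfl <;>
      first | exact idx_lt.1 | exact idx_lt.2.2
  have e := (eqB_iff hL (by simp)).1 sep_ok.1
  rw [elW_rep, elW_nil] at e
  rw [← e]
  congr 1

/-- after an inner automorphism an element of order 29 is the chosen one or its square -/
theorem exists_conj_rep (y : ↥Hgrp) (hy : orderOf y = 29) :
    ∃ g : ↥Hgrp, g * y * g⁻¹ = el xI ∨ g * y * g⁻¹ = el xI ^ 2 := by
  obtain ⟨hx, hhx, -⟩ := three
  have := Fact.mk (show Nat.Prime 29 by norm_num)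
  have hs : ∀ a : ↥Hgrp, orderOf a = 29 →
      ∃ P : Sylow 29 ↥Hgrp, (P : Subgroup ↥Hgrp) = Subgroup.zpowers a := by
    intro a ha
    refine ⟨Sylow.ofCard (Subgroup.zpowers a) ?_, rfl⟩
    rw [Nat.card_zpowers, ha, Rud.card_Hgrp, show (145926144000 : ℕ) = 29 ^ 1 * 5031936000 by norm_num,
      Nat.factorization_mul (by norm_num) (by norm_num), Finsupp.add_apply,
      Nat.Prime.factorization_pow (by norm_num), Finsupp.single_eq_same,
      Nat.factorization_eq_zero_of_not_dvd (by norm_num)]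
    norm_num
  obtain ⟨P, hP⟩ := hs _ hx
  obtain ⟨R, hR⟩ := hs y hy
  obtain ⟨g, hg⟩ := MulAction.exists_smul_eq ↥Hgrp R P
  have hmem : g * y * g⁻¹ ∈ Subgroup.zpowers (el xI) := by
    rw [← hP, ← hg, Sylow.coe_subgroup_smul, hR]
    exact Subgroup.smul_mem_pointwise_smul _ (MulAut.conj g) _ (Subgroup.mem_zpowers _)
  obtain ⟨k, hk, e⟩ : ∃ k, k < 29 ∧ el xI ^ k = g * y * g⁻¹ := by
    obtain ⟨k', e'⟩ := (isOfFinOrder_of_finite (el xI)).mem_powers_iff_mem_zpowers.mpr hmem
    exact ⟨k' % 29, Nat.mod_lt _ (by norm_num), by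
      change el xI ^ k' = _ at e'
      rw [← e', ← hx, pow_mod_orderOf]⟩
  have hk0 : k ≠ 0 := by
    rintro rfl
    have hc : orderOf (g * y * g⁻¹) = 29 :=
      (orderOf_injective (MulAut.conj g).toMonoidHom (MulAut.conj g).injective _).trans hy
    rw [← e, pow_zero, orderOf_one] at hc
    norm_num at hc
  obtain ⟨j, hj⟩ := (show ∀ k : Fin 29, k.val ≠ 0 →
      ∃ j : Fin 29, 5 ^ j.val * k.val % 29 = 1 ∨ 5 ^ j.val * k.val % 29 = 2 by decide +kernel) ⟨k, hk⟩ hk0
  have hconj : ∀ i m : ℕ, el hI ^ i * el xI ^ m * (el hI ^ i)⁻¹ = el xI ^ (5 ^ i * m) := by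
    intro i
    induction i with
    | zero => intro m; simp
    | succ i ih =>
      intro m
      rw [pow_succ, show el hI ^ i * el hI * el xI ^ m * (el hI ^ i * el hI)⁻¹ =
        el hI ^ i * (el hI * el xI ^ m * (el hI)⁻¹) * (el hI ^ i)⁻¹ by group, ← conj_pow, hhx, ← pow_mul,
        ih, pow_succ, mul_assoc]
  refine ⟨el hI ^ (j : ℕ) * g, ?_⟩
  have hval : el hI ^ (j : ℕ) * g * y * (el hI ^ (j : ℕ) * g)⁻¹ = el xI ^ (5 ^ (j : ℕ) * k % 29) := by
    rw [show el hI ^ (j : ℕ) * g * y * (el hI ^ (j : ℕ) * g)⁻¹ =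
      el hI ^ (j : ℕ) * (g * y * g⁻¹) * (el hI ^ (j : ℕ))⁻¹ by group, ← e, hconj,
      ← pow_eq_pow_mod _ (show el xI ^ 29 = 1 by rw [← hx, pow_orderOf_eq_one])]
  rcases hj with hj | hj
  · exact Or.inl (by rw [hval, hj, pow_one])
  · exact Or.inr (by rw [hval, hj])

theorem card_out : Nat.card (Cfsg.Out ↥Hgrp) = 1 := by
  obtain ⟨hx, hhx, hv2, hv1, hhv, hxv⟩ := three
  have hx29 : el xI ^ 29 = 1 := by rw [← hx, pow_orderOf_eq_one]
  have hinner : ∀ φ : MulAut ↥Hgrp, ∃ g : ↥Hgrp, ∀ a, g * φ a * g⁻¹ = a := by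
    intro φ
    obtain ⟨g₁, c, hc, hg₁⟩ : ∃ (g₁ : ↥Hgrp) (c : ℕ), (c = 1 ∨ c = 2) ∧ g₁ * φ (el xI) * g₁⁻¹ = el xI ^ c := by
      obtain ⟨g, hg | hg⟩ := exists_conj_rep (φ (el xI)) ((MulEquiv.orderOf_eq φ _).trans hx)
      · exact ⟨g, 1, Or.inl rfl, by rw [hg, pow_one]⟩
      · exact ⟨g, 2, Or.inr rfl, hg⟩
    set ψ : MulAut ↥Hgrp := MulAut.conj g₁ * φ with hψ
    have hψx : ψ (el xI) = el xI ^ c := hg₁
    obtain ⟨m, hm⟩ : ∃ m : ℕ, (el hI)⁻¹ * ψ (el hI) = el xI ^ m := by
      refine commute_x ?_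
      have e1 : ψ (el hI) * el xI ^ c * (ψ (el hI))⁻¹ = el hI * el xI ^ c * (el hI)⁻¹ := by
        rw [← conj_pow (a := el hI), hhx, ← pow_mul, mul_comm, pow_mul, ← hψx, ← map_inv, ← map_mul,
          ← map_mul, hhx, map_pow]
      have e2 : Commute ((el hI)⁻¹ * ψ (el hI)) (el xI ^ c) := by
        show (el hI)⁻¹ * ψ (el hI) * el xI ^ c = el xI ^ c * ((el hI)⁻¹ * ψ (el hI))
        calc (el hI)⁻¹ * ψ (el hI) * el xI ^ c
            = (el hI)⁻¹ * (ψ (el hI) * el xI ^ c * (ψ (el hI))⁻¹) * ψ (el hI) := by group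
          _ = _ := by rw [e1]; group
      rcases hc with rfl | rfl
      · rw [pow_one] at e2; exact e2.eq
      · have h := e2.pow_right 15
        rw [← pow_mul, show 2 * 15 = 29 + 1 from rfl, pow_succ, hx29, one_mul] at h
        exact h.eq
    obtain ⟨g₂, hg₂x, hg₂h⟩ : ∃ g₂ : ↥Hgrp,
        g₂ * el xI ^ c * g₂⁻¹ = el xI ^ c ∧ g₂ * ψ (el hI) * g₂⁻¹ = el hI := by
      refine ⟨el xI ^ (23 * m), by group, ?_⟩
      have hψh : ψ (el hI) = el hI * el xI ^ m := by rw [← hm, mul_inv_cancel_left]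
      have hswap : el xI ^ (23 * m) * el hI = el hI * el xI ^ (6 * (23 * m)) := by
        calc el xI ^ (23 * m) * el hI
            = (el hI * el xI ^ (6 * (23 * m)) * (el hI)⁻¹) * el hI := by
              rw [← conj_pow, hhx, ← pow_mul, show 5 * (6 * (23 * m)) = 23 * m + 29 * (23 * m) by ring,
                pow_add, pow_mul (el xI) 29, hx29, one_pow, mul_one]
          _ = _ := by group
      rw [hψh, mul_inv_eq_iff_eq_mul, ← mul_assoc, hswap, mul_assoc, ← pow_add]
      refine congrArg (el hI * ·) ?_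
      rw [show 6 * (23 * m) + m = 29 * (4 * m) + 23 * m by ring, pow_add, pow_mul (el xI) 29, hx29,
        one_pow, one_mul]
    set χ : MulAut ↥Hgrp := MulAut.conj g₂ * ψ with hχ
    have hχx : χ (el xI) = el xI ^ c := by
      show g₂ * ψ (el xI) * g₂⁻¹ = el xI ^ c
      rw [hψx, hg₂x]
    have hχh : χ (el hI) = el hI := hg₂h
    obtain ⟨hA, hB⟩ := commute_h (g := χ (el vI))
      (by rw [← hχh, ← map_mul, hhv, map_mul, hχh]) (by rw [← map_mul, hv2, map_one])
      (fun e => hv1 ((map_eq_one_iff χ χ.injective).1 e))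
    rcases hc with rfl | rfl
    · rw [pow_one] at hχx
      have hχv : χ (el vI) = el vI := hA (by rw [← hχx, ← map_mul, ← map_pow, hxv, map_one])
      have hid : χ.toMonoidHom = MonoidHom.id _ := by
        refine MonoidHom.eq_of_eqOn_dense generated ?_
        rintro a (rfl | rfl)
        exacts [hχx, hχv]
      refine ⟨g₂ * g₁, fun a => ?_⟩
      calc g₂ * g₁ * φ a * (g₂ * g₁)⁻¹ = g₂ * (g₁ * φ a * g₁⁻¹) * g₂⁻¹ := by group
        _ = χ a := rfl
        _ = a := DFunLike.congr_fun hid a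
    · exfalso
      apply hB
      have := congrArg χ sep_v
      rw [map_pow, map_mul, map_mul, map_mul, map_pow, hχx, map_one, ← pow_mul] at this
      exact this
  have hall : ∀ φ : MulAut ↥Hgrp, φ ∈ Cfsg.Inn ↥Hgrp := by
    intro φ
    obtain ⟨g, hg⟩ := hinner φ
    refine ⟨g⁻¹, MulEquiv.ext fun a => ?_⟩
    show g⁻¹ * a * g⁻¹⁻¹ = φ a
    conv_lhs => rw [← hg a]
    group
  rw [show Cfsg.Out ↥Hgrp = (MulAut ↥Hgrp ⧸ Cfsg.Inn ↥Hgrp) from rfl, Nat.card_eq_one_iff_unique]
  exact ⟨⟨fun a b => by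
    obtain ⟨a, rfl⟩ := QuotientGroup.mk_surjective a
    obtain ⟨b, rfl⟩ := QuotientGroup.mk_surjective b
    exact QuotientGroup.eq.mpr (hall _)⟩, ⟨1⟩⟩

end Cfsg.Agent.RudOut
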