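import Mathlib
import Cfsg.Agent.RudOut.Main
import Cfsg.Agent.RudLat.Main

/-! Transfer to the lattice definition of the group. -/

set_option autoImplicit false

namespace Cfsg.Agent.RudOut

theorem card_out_equiv {G H : Type} [Group G] [Group H] (e : G ≃* H) :
    Nat.card (Cfsg.Out G) = Nat.card (Cfsg.Out H) := by
  refine Nat.card_congr (QuotientGroup.congr (Cfsg.Inn G) (Cfsg.Inn H) (MulAut.congr e) ?_).toEquiv
  ext a
  constructor
  · rintro ⟨_, ⟨x, rfl⟩, rfl⟩
    exact ⟨e x, MulEquiv.ext fun y => by simp⟩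
  · rintro ⟨y, rfl⟩
    exact ⟨MulAut.conj (e.symm y), ⟨_, rfl⟩, MulEquiv.ext fun z => by simp⟩

theorem card_out_Ru : Nat.card (Cfsg.Out Cfsg.Spor.Ru) = 1 :=
  (card_out_equiv RudLat.ruEquiv).trans card_out

end Cfsg.Agent.RudOut
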